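import Mathlib.Algebra.Homology.HomologicalComplexLimits
import Mathlib.Algebra.Homology.HomologicalComplexAbelian
import Mathlib.Algebra.Homology.Embedding.CochainComplex
import Mathlib.CategoryTheory.Category.Preorder

/-!
Brutal truncations `σ_{≥ -k}` of a complex as an increasing sequence of subcomplexes with colimit the complex.
-/

set_option autoImplicit false
set_option backward.isDefEq.respectTransparency false

universe v u

open CategoryTheory CategoryTheory.Limits

namespace Groth.Agent.AcyclicSum8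

variable {A : Type u} [Category.{v} A] [Abelian A] (K : CochainComplex A ℤ)

noncomputable def cut (k : ℕ) (i : ℤ) : K.X i ⟶ K.X i := if -(k : ℤ) ≤ i then 0 else 𝟙 _

theorem cut_eq_zero {k : ℕ} {i : ℤ} (h : -(k : ℤ) ≤ i) : cut K k i = 0 := if_pos h

theorem cut_ι_eq_zero {k : ℕ} {i : ℤ} (h : ¬ -(k : ℤ) ≤ i) : kernel.ι (cut K k i) = 0 := by
  have := kernel.condition (cut K k i)
  have h' : cut K k i = 𝟙 _ := if_neg h
  exact (Category.comp_id _).symm.trans ((congrArg (kernel.ι (cut K k i) ≫ ·) h'.symm).trans this)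

theorem isZero_cut {k : ℕ} {i : ℤ} (h : ¬ -(k : ℤ) ≤ i) : IsZero (kernel (cut K k i)) := by
  rw [IsZero.iff_id_eq_zero, ← cancel_mono (kernel.ι (cut K k i)), zero_comp, Category.id_comp, cut_ι_eq_zero K h]

theorem isIso_cut_ι {k : ℕ} {i : ℤ} (h : -(k : ℤ) ≤ i) : IsIso (kernel.ι (cut K k i)) :=
  KernelFork.IsLimit.isIso_ι (KernelFork.ofι _ (kernel.condition (cut K k i)))
    (kernelIsKernel _) (cut_eq_zero K h)

/-- `σ_{≥ -k} K`. -/
noncomputable def σ (k : ℕ) : CochainComplex A ℤ where
  X i := kernel (cut K k i)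
  d i j := kernel.lift _ (kernel.ι (cut K k i) ≫ K.d i j) (by
    by_cases hr : i + 1 = j
    · by_cases h : -(k : ℤ) ≤ j
      · simp [cut_eq_zero K h]
      · simp [cut_ι_eq_zero K (show ¬ -(k : ℤ) ≤ i by omega)]
    · simp [K.shape i j hr])
  shape i j h := by rw [← cancel_mono (kernel.ι _)]; simp [K.shape i j h]
  d_comp_d' i j l _ _ := by rw [← cancel_mono (kernel.ι _)]; simp

noncomputable def σι (k : ℕ) : σ K k ⟶ K where
  f i := kernel.ι (cut K k i)
  comm' i j _ := by simp [σ]

instance (k : ℕ) (i : ℤ) : Mono ((σι K k).f i) := inferInstanceAs (Mono (kernel.ι (cut K k i)))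

instance (k : ℕ) : Mono (σι K k) := HomologicalComplex.mono_of_mono_f _ inferInstance

instance (k : ℕ) : (σ K k).IsStrictlyGE (-(k : ℤ)) := by
  rw [CochainComplex.isStrictlyGE_iff]
  exact fun i hi => isZero_cut K (by omega)

noncomputable def σmap {k l : ℕ} (h : k ≤ l) : σ K k ⟶ σ K l where
  f i := kernel.lift _ (kernel.ι (cut K k i)) (by
    by_cases hl : -(l : ℤ) ≤ i
    · simp [cut_eq_zero K hl]
    · simp [cut_ι_eq_zero K (show ¬ -(k : ℤ) ≤ i by omega)])
  comm' i j _ := by rw [← cancel_mono (kernel.ι _)]; simp [σ]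

theorem σmap_ι {k l : ℕ} (h : k ≤ l) : σmap K h ≫ σι K l = σι K k := by
  ext i; exact kernel.lift_ι _ _ _

noncomputable def seq : ℕ ⥤ CochainComplex A ℤ where
  obj := σ K
  map h := σmap K (leOfHom h)
  map_id k := by rw [← cancel_mono (σι K k), σmap_ι, Category.id_comp]
  map_comp {a b c} f g := by rw [← cancel_mono (σι K c), Category.assoc, σmap_ι, σmap_ι, σmap_ι]

noncomputable def cocone : Cocone (seq K) where
  pt := K
  ι := { app := σι K, naturality := fun a b f => (σmap_ι K (leOfHom f)).trans (Category.comp_id _).symm }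

noncomputable def isColimit : IsColimit (cocone K) :=
  HomologicalComplex.isColimitOfEval _ _ fun i => by
    let D := (HomologicalComplex.eval A (ComplexShape.up ℤ) i).mapCocone (cocone K)
    haveI hiso : ∀ k : ℕ, i.natAbs ≤ k → IsIso (D.ι.app k) := fun k hk => isIso_cut_ι K (by omega)
    haveI := hiso i.natAbs le_rfl
    refine { desc := fun s => CategoryTheory.inv (D.ι.app i.natAbs) ≫ s.ι.app i.natAbs, fac := fun s j => ?_, uniq := fun s m hm => ?_ }
    · haveI := hiso (max j i.natAbs) (le_max_right _ _)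
      have h1 : D.ι.app (max j i.natAbs) ≫ CategoryTheory.inv (D.ι.app i.natAbs) ≫ s.ι.app i.natAbs = s.ι.app (max j i.natAbs) := by
        rw [← s.w (homOfLE (le_max_right j i.natAbs))]
        have e := D.w (homOfLE (le_max_right j i.natAbs))
        rw [show (seq K ⋙ HomologicalComplex.eval A _ i).map (homOfLE (le_max_right j i.natAbs)) =
          D.ι.app i.natAbs ≫ CategoryTheory.inv (D.ι.app (max j i.natAbs)) by rw [IsIso.eq_comp_inv]; exact e]
        simp
      show D.ι.app j ≫ _ = _
      rw [← D.w (homOfLE (le_max_left j i.natAbs)), ← s.w (homOfLE (le_max_left j i.natAbs)), Category.assoc, h1]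
    · rw [← hm i.natAbs]
      exact (IsIso.inv_hom_id_assoc (D.ι.app i.natAbs) m).symm

end Groth.Agent.AcyclicSum8
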