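import Groth.Agent.Lib.AcyclicSum8.Sum
import Groth.Agent.Lib.AcyclicSum8.Trunc
import Groth.Agent.Lib.Adapted8.Acyclic
import Groth.Agent.Lib.KInj.RightDerived
import Groth.Agent.Lib.Telescope29.Basic
import Mathlib.Algebra.Homology.GrothendieckAbelian
import Mathlib.Algebra.Homology.DerivedCategory.DerivabilityStructureInjectives
import Mathlib.Algebra.Category.Grp.AB

/-!
If `RF` preserves countable sums and the `RⁿF` commute with filtered colimits, unbounded complexes of acyclic
objects compute `RF`.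
-/

set_option autoImplicit false
set_option backward.isDefEq.respectTransparency false

universe w w' v u v' u' t

open CategoryTheory CategoryTheory.Limits Pretriangulated
open DerivedCategory (Q Qh quotientCompQhIso)
open CochainComplex (mappingCone)

namespace Groth.Agent.AcyclicSum8

variable {A : Type u} [Category.{v} A] [Abelian A] [IsGrothendieckAbelian.{v} A] [HasDerivedCategory.{w} A]

/-- A colimit cofan of complexes is one in the derived category. -/
theorem isColimit_Q {T : Type t} [HasCoproductsOfShape T A] {X : T → CochainComplex A ℤ} (c : Cofan X) (hc : IsColimit c) :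
    Nonempty (IsColimit (Cofan.mk (Q.obj c.pt) fun a => (Q : CochainComplex A ℤ ⥤ DerivedCategory A).map (c.inj a))) := by
  let e : ∐ X ≅ c.pt := (coproductIsCoproduct X).coconePointUniqueUpToIso hc
  have he : ∀ a, Sigma.ι X a ≫ e.hom = c.inj a := fun a =>
    IsColimit.comp_coconePointUniqueUpToIso_hom (coproductIsCoproduct X) hc ⟨a⟩
  have key : ∀ (Z : DerivedCategory A) (g : ∀ a, Q.obj (X a) ⟶ Z),
      ∃! l : Q.obj (∐ X) ⟶ Z, ∀ a, Q.map (Sigma.ι X a) ≫ l = g a := by
    intro Z g
    obtain ⟨I, hI, ⟨e⟩⟩ := KInjLib.exists_iso_kInjective Z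
    choose φ hφ using fun a => KInjLib.exists_map_eq (g a ≫ e.hom)
    refine ⟨Q.map (Sigma.desc φ) ≫ e.inv, fun a => ?_, fun l hl => ?_⟩
    · rw [← Q.map_comp_assoc, Sigma.ι_desc, hφ, Category.assoc, e.hom_inv_id, Category.comp_id]
    · obtain ⟨ψ, hψ⟩ := KInjLib.exists_map_eq (l ≫ e.hom)
      rw [← cancel_mono e.hom, ← hψ, Category.assoc, e.inv_hom_id, Category.comp_id, KInjLib.map_eq_iff]
      refine KInjLib.homotopy_of_sigma X _ _ fun a => (KInjLib.map_eq_iff _ _).1 ?_
      rw [Sigma.ι_desc, hφ, Q.map_comp, hψ, ← Category.assoc, hl]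
  refine ⟨IsColimit.ofIsoColimit (mkCofanColimit (Cofan.mk (Q.obj (∐ X)) fun a => Q.map (Sigma.ι X a))
    (fun s => (key s.pt s.inj).exists.choose) (fun s => (key s.pt s.inj).exists.choose_spec)
    fun s m hm => (key s.pt s.inj).unique hm (key s.pt s.inj).exists.choose_spec) (Cofan.ext (Q.mapIso e) fun a => ?_)⟩
  exact (Q.map_comp _ _).symm.trans (congrArg Q.map (he a))

variable {B : Type u'} [Category.{v'} B] [Abelian B] [HasDerivedCategory.{w'} B] (F : A ⥤ B) [F.Additive]
  (RF : DerivedCategory A ⥤ DerivedCategory B)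
  (α : F.mapHomotopyCategory (ComplexShape.up ℤ) ⋙ Qh ⟶ Qh ⋙ RF)

/-- The unit on complexes. -/
noncomputable def β : F.mapHomologicalComplex (ComplexShape.up ℤ) ⋙ Q ⟶ Q ⋙ RF :=
  Functor.whiskerLeft (F.mapHomologicalComplex (ComplexShape.up ℤ)) (quotientCompQhIso B).inv ≫
    Functor.whiskerRight (F.mapHomotopyCategoryFactors (ComplexShape.up ℤ)).inv Qh ≫
    Functor.whiskerLeft (HomotopyCategory.quotient A (ComplexShape.up ℤ)) α ≫
    Functor.whiskerRight (quotientCompQhIso A).hom RF

theorem isIso_β_app_iff (K : CochainComplex A ℤ) :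
    IsIso ((β F RF α).app K) ↔ IsIso (α.app ((HomotopyCategory.quotient A (ComplexShape.up ℤ)).obj K)) := by
  constructor
  · intro h
    dsimp [β] at h
    exact @IsIso.of_isIso_comp_right _ _ _ _ _ _ _ _
      (@IsIso.of_isIso_comp_left _ _ _ _ _ _ _ _ (@IsIso.of_isIso_comp_left _ _ _ _ _ _ _ _ h))
  · intro h
    dsimp [β]
    infer_instance

omit [IsGrothendieckAbelian.{v} A] [HasDerivedCategory.{w} A] [HasDerivedCategory.{w'} B] in
theorem map_descShortComplex (S : ShortComplex (CochainComplex A ℤ)) :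
    (F.mapHomologicalComplex (ComplexShape.up ℤ)).map (CochainComplex.mappingCone.descShortComplex S) =
      (CochainComplex.mappingCone.mapHomologicalComplexIso S.f F).hom ≫
        CochainComplex.mappingCone.descShortComplex (S.map (F.mapHomologicalComplex (ComplexShape.up ℤ))) := by
  rw [← Iso.inv_comp_eq]
  ext m
  simp [CochainComplex.mappingCone.mapHomologicalComplexIso, CochainComplex.mappingCone.mapHomologicalComplexXIso_eq S.f F m (m + 1) rfl,
    CochainComplex.mappingCone.mapHomologicalComplexXIso', ← F.map_comp, CochainComplex.mappingCone.ext_from_iff _ (m + 1) m rfl]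
  exact ⟨(CochainComplex.mappingCone.inl_v_descShortComplex_f (S.map (F.mapHomologicalComplex (ComplexShape.up ℤ))) _ _ _).symm,
    (CochainComplex.mappingCone.inr_f_descShortComplex_f (S.map (F.mapHomologicalComplex (ComplexShape.up ℤ))) m).symm⟩

variable [RF.IsRightDerivedFunctor α (HomotopyCategory.quasiIso A (ComplexShape.up ℤ))]

theorem isIso_β_kinj (I : CochainComplex A ℤ) [I.IsKInjective] : IsIso ((β F RF α).app I) :=
  (isIso_β_app_iff F RF α I).2 (KInjLib.isIso_app_of_isKInjective KInjLib.enoughKInj_of_grothendieck α I)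

theorem isIso_β_iff {K I : CochainComplex A ℤ} [I.IsKInjective] (f : K ⟶ I) [QuasiIso f] :
    IsIso ((β F RF α).app K) ↔ QuasiIso ((F.mapHomologicalComplex (ComplexShape.up ℤ)).map f) := by
  haveI := isIso_β_kinj F RF α I
  haveI : IsIso ((Q : CochainComplex A ℤ ⥤ DerivedCategory A).map f) := by
    rw [DerivedCategory.isIso_Q_map_iff_quasiIso]; infer_instance
  have h := (β F RF α).naturality f
  simp only [Functor.comp_map] at h
  rw [← DerivedCategory.isIso_Q_map_iff_quasiIso (C := B)]
  constructor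
  · intro hK
    exact @IsIso.of_isIso_comp_right _ _ _ _ _ _ ((β F RF α).app I) inferInstance (h ▸ inferInstance)
  · intro hF
    exact @IsIso.of_isIso_comp_right _ _ _ _ _ _ (RF.map (Q.map f)) inferInstance (h.symm ▸ inferInstance)

theorem isIso_β_of_bounded [PreservesFiniteLimits F] (K : CochainComplex A ℤ) (a : ℤ) [K.IsStrictlyGE (a + 1)]
    (hK : ∀ m, RFPlus.IsAcyclicObj F (K.X m)) : IsIso ((β F RF α).app K) := by
  obtain ⟨L, f, hL, hf, hge⟩ : ∃ (L : CochainComplex A ℤ) (f : K ⟶ L), (∀ n, Injective (L.X n)) ∧ QuasiIso f ∧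
      L.IsStrictlyGE (a + 1) := by
    obtain ⟨L, i, _, _, _⟩ := CochainComplex.Plus.modelCategoryQuillen.exists_quasiIso_injective K (a + 1)
    exact ⟨L, i, inferInstance, inferInstance, inferInstance⟩
  haveI := hf
  haveI := hge
  haveI := hL
  haveI : L.IsKInjective := CochainComplex.isKInjective_of_injective L (a + 1)
  haveI : L.IsStrictlyGE a := L.isStrictlyGE_of_ge a (a + 1) (by omega)
  rw [isIso_β_iff F RF α f]
  exact RFPlus.quasiIso_map_of_acyclic_terms F f a hK fun m => RFPlus.isAcyclicObj_injective F _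

/-- Complexes computed by `F` are stable under cones. -/
theorem isIso_β_mappingCone {X Y : CochainComplex A ℤ} (u : X ⟶ Y) (hX : IsIso ((β F RF α).app X))
    (hY : IsIso ((β F RF α).app Y)) : IsIso ((β F RF α).app (mappingCone u)) := by
  obtain ⟨I, fX, hI, hfX⟩ := KInjLib.enoughKInj_of_grothendieck X
  obtain ⟨J, fY, hJ, hfY⟩ := KInjLib.enoughKInj_of_grothendieck Y
  haveI := hI; haveI := hJ; haveI := hfX; haveI := hfY
  haveI : IsIso ((Q : CochainComplex A ℤ ⥤ DerivedCategory A).map fX) := by
    rw [DerivedCategory.isIso_Q_map_iff_quasiIso]; infer_instance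
  obtain ⟨v, hv⟩ := KInjLib.exists_map_eq (CategoryTheory.inv (Q.map fX) ≫ Q.map u ≫ Q.map fY)
  have hh : (HomotopyCategory.quotient A (ComplexShape.up ℤ)).map u ≫ (HomotopyCategory.quotient A _).map fY =
      (HomotopyCategory.quotient A _).map fX ≫ (HomotopyCategory.quotient A _).map v := by
    rw [← Functor.map_comp, ← Functor.map_comp]
    refine HomotopyCategory.eq_of_homotopy _ _ ((KInjLib.map_eq_iff _ _).1 ?_).some
    rw [Functor.map_comp, Functor.map_comp, hv, IsIso.hom_inv_id_assoc]
  obtain ⟨φ, h₂, h₃⟩ := complete_distinguished_triangle_morphism _ _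
    (HomotopyCategory.mappingCone_triangleh_distinguished u) (HomotopyCategory.mappingCone_triangleh_distinguished v)
    ((HomotopyCategory.quotient A _).map fX) ((HomotopyCategory.quotient A _).map fY) hh
  let m := Triangle.homMk (CochainComplex.mappingCone.triangleh u) (CochainComplex.mappingCone.triangleh v)
    ((HomotopyCategory.quotient A _).map fX) ((HomotopyCategory.quotient A _).map fY) φ hh h₂ h₃
  obtain ⟨g, hg⟩ : ∃ g : mappingCone u ⟶ mappingCone v, (HomotopyCategory.quotient A (ComplexShape.up ℤ)).map g = φ :=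
    (HomotopyCategory.quotient A (ComplexShape.up ℤ)).map_surjective φ
  haveI : IsIso (Qh.map ((HomotopyCategory.quotient A (ComplexShape.up ℤ)).map fX)) :=
    Localization.inverts Qh (HomotopyCategory.quasiIso A (ComplexShape.up ℤ)) _
      ((HomotopyCategory.quotient_map_mem_quasiIso_iff _).2 hfX)
  haveI : IsIso (Qh.map ((HomotopyCategory.quotient A (ComplexShape.up ℤ)).map fY)) :=
    Localization.inverts Qh (HomotopyCategory.quasiIso A (ComplexShape.up ℤ)) _
      ((HomotopyCategory.quotient_map_mem_quasiIso_iff _).2 hfY)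
  have h3 : IsIso (Qh.map φ) := isIso₃_of_isIso₁₂ (Qh.mapTriangle.map m)
    (Qh.map_distinguished _ (HomotopyCategory.mappingCone_triangleh_distinguished u))
    (Qh.map_distinguished _ (HomotopyCategory.mappingCone_triangleh_distinguished v)) ‹_› ‹_›
  haveI : QuasiIso g := by
    rw [← hg] at h3
    rw [← DerivedCategory.isIso_Q_map_iff_quasiIso (C := A)]
    exact (NatIso.isIso_map_iff (quotientCompQhIso A) g).1 h3
  haveI : (mappingCone v).IsKInjective := by
    rw [CochainComplex.isKInjective_iff_rightOrthogonal] at hI hJ ⊢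
    exact ObjectProperty.ext_of_isTriangulatedClosed₃ _ _ (HomotopyCategory.mappingCone_triangleh_distinguished v) hI hJ
  rw [isIso_β_iff F RF α (K := mappingCone u) (I := mappingCone v) g, ← DerivedCategory.isIso_Q_map_iff_quasiIso (C := B)]
  refine (NatIso.isIso_map_iff (quotientCompQhIso B) _).1 ?_
  let G := F.mapHomotopyCategory (ComplexShape.up ℤ) ⋙ Qh
  have hGm : ∀ {P P' : CochainComplex A ℤ} (k : P ⟶ P'),
      IsIso (G.map ((HomotopyCategory.quotient A (ComplexShape.up ℤ)).map k)) ↔
        QuasiIso ((F.mapHomologicalComplex (ComplexShape.up ℤ)).map k) := fun k => by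
    rw [← DerivedCategory.isIso_Q_map_iff_quasiIso (C := B)]
    exact NatIso.isIso_map_iff (quotientCompQhIso B) ((F.mapHomologicalComplex (ComplexShape.up ℤ)).map k)
  haveI : IsIso (G.map ((HomotopyCategory.quotient A (ComplexShape.up ℤ)).map fX)) := (hGm fX).2 ((isIso_β_iff F RF α fX).1 hX)
  haveI : IsIso (G.map ((HomotopyCategory.quotient A (ComplexShape.up ℤ)).map fY)) := (hGm fY).2 ((isIso_β_iff F RF α fY).1 hY)
  have h4 : IsIso (G.map φ) := isIso₃_of_isIso₁₂ (G.mapTriangle.map m)
    (G.map_distinguished _ (HomotopyCategory.mappingCone_triangleh_distinguished u))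
    (G.map_distinguished _ (HomotopyCategory.mappingCone_triangleh_distinguished v)) ‹_› ‹_›
  rw [← hg] at h4
  exact h4

variable [IsGrothendieckAbelian.{v'} B]

theorem isIso_β_sigma {T : Type t} [HasCoproductsOfShape T A] [HasCoproductsOfShape T B]
    (X : T → CochainComplex A ℤ) [∀ m, PreservesColimit (Discrete.functor fun a => (X a).X m) F]
    [PreservesColimitsOfShape (Discrete T) RF] (hX : ∀ a, IsIso ((β F RF α).app (X a))) :
    IsIso ((β F RF α).app (∐ X)) := by
  let c := Cofan.mk ((F.mapHomologicalComplex (ComplexShape.up ℤ)).obj (∐ X))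
    fun a => (F.mapHomologicalComplex (ComplexShape.up ℤ)).map (Sigma.ι X a)
  have hc : IsColimit c := HomologicalComplex.isColimitOfEval _ _ fun m =>
    (isColimitMapCoconeCofanMkEquiv (HomologicalComplex.eval B (ComplexShape.up ℤ) m) _ _).symm
      (isColimitCofanMkObjOfIsColimit F _ _
        (isColimitCofanMkObjOfIsColimit (HomologicalComplex.eval A (ComplexShape.up ℤ) m) _ _ (coproductIsCoproduct X)))
  obtain ⟨h1⟩ := isColimit_Q (A := B) c hc
  obtain ⟨h2⟩ := isColimit_Q (A := A) (Cofan.mk (∐ X) (Sigma.ι X)) (coproductIsCoproduct X)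
  have h3 := isColimitCofanMkObjOfIsColimit RF _ _ h2
  haveI := hX
  let e : ∀ a, Q.obj ((F.mapHomologicalComplex (ComplexShape.up ℤ)).obj (X a)) ≅ RF.obj (Q.obj (X a)) := fun a =>
    @asIso _ _ _ _ ((β F RF α).app (X a)) (hX a)
  let i := IsColimit.coconePointsIsoOfNatIso h1 h3 (Discrete.natIso fun a => e a.as)
  have hi : (β F RF α).app (∐ X) = i.hom := h1.hom_ext fun ⟨a⟩ =>
    ((β F RF α).naturality (Sigma.ι X a)).trans
      (IsColimit.comp_coconePointsIsoOfNatIso_hom h1 h3 (Discrete.natIso fun a => e a.as) ⟨a⟩).symm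
  rw [hi]
  infer_instance

end Groth.Agent.AcyclicSum8
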