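import Mathlib.CategoryTheory.Limits.Constructions.Filtered
import Mathlib.CategoryTheory.Limits.Preserves.Filtered
import Mathlib.CategoryTheory.Preadditive.AdditiveFunctor
import Mathlib.CategoryTheory.Abelian.Basic

/-!
An additive functor commuting with filtered colimits commutes with coproducts.
-/

set_option autoImplicit false
set_option backward.isDefEq.respectTransparency false

universe w v u v' u'

open CategoryTheory CategoryTheory.Limits CoproductsFromFiniteFiltered

namespace Groth.Agent.AcyclicSum8

variable {C : Type u} [Category.{v} C] [Abelian C] {D : Type u'} [Category.{v'} D] [Abelian D]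

theorem preservesColimit_discrete (G : C ⥤ D) [G.Additive] {α : Type w}
    [HasColimitsOfShape (Finset (Discrete α)) C] [PreservesColimitsOfShape (Finset (Discrete α)) G]
    (f : α → C) [HasCoproduct f] : PreservesColimit (Discrete.functor f) G := by
  have hfin : ∀ S : Finset (Discrete α), IsColimit (Cofan.mk (G.obj (∐ fun x : S => f x.1.as))
      fun x => G.map (Sigma.ι (fun x : S => f x.1.as) x)) := fun S =>
    isColimitCofanMkObjOfIsColimit G _ _ (coproductIsCoproduct _)
  have hbig := isColimitOfPreserves G (isColimitFiniteSubproductsCocone f)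
  refine preservesColimit_of_preserves_colimit_cocone (coproductIsCoproduct f)
    ((isColimitMapCoconeCofanMkEquiv G f (Sigma.ι f)).symm ?_)
  let t : ∀ s : Cofan fun a => G.obj (f a), Cocone (liftToFinsetObj (Discrete.functor f) ⋙ G) := fun s =>
    { pt := s.pt
      ι :=
        { app := fun S => Cofan.IsColimit.desc (hfin S) fun x => s.inj x.1.as
          naturality := fun S T h => Cofan.IsColimit.hom_ext (hfin S) _ _ fun x => by
            have e1 := Cofan.IsColimit.fac (hfin S) (fun x => s.inj x.1.as) x
            have e2 := Cofan.IsColimit.fac (hfin T) (fun x => s.inj x.1.as) ⟨x.1, h.down.down x.2⟩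
            dsimp at e1 e2 ⊢
            rw [Category.comp_id, e1, ← e2, ← G.map_comp_assoc]
            congr 2
            simp [liftToFinsetObj] } }
  have hleg : ∀ a : α, G.map (Sigma.ι f a) =
      G.map (Sigma.ι (fun x : ({⟨a⟩} : Finset (Discrete α)) => f x.1.as) ⟨⟨a⟩, by simp⟩) ≫
        G.map ((finiteSubcoproductsCocone f).ι.app {⟨a⟩}) := fun a => by
    rw [← G.map_comp]
    simp [finiteSubcoproductsCocone]
  refine mkCofanColimit _ (fun s => hbig.desc (t s)) (fun s a => ?_) fun s m hm => ?_
  · have e := hbig.fac (t s) ({⟨a⟩} : Finset (Discrete α))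
    have e1 := Cofan.IsColimit.fac (hfin ({⟨a⟩} : Finset (Discrete α))) (fun x => s.inj x.1.as) ⟨⟨a⟩, by simp⟩
    dsimp at e e1 ⊢
    rw [hleg a, Category.assoc]
    exact (congrArg (_ ≫ ·) e).trans e1
  · refine hbig.hom_ext fun S => (Cofan.IsColimit.hom_ext (hfin S) _ _ fun x => ?_)
    have e := hbig.fac (t s) S
    have e1 := Cofan.IsColimit.fac (hfin S) (fun x => s.inj x.1.as) x
    dsimp at e e1 ⊢
    refine Eq.trans ?_ ((congrArg (_ ≫ ·) e).trans e1).symm
    rw [← hm x.1.as, ← G.map_comp_assoc]
    simp [finiteSubcoproductsCocone]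

end Groth.Agent.AcyclicSum8
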